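import Groth.Agent.CycB.DegSky
import Groth.Agent.VarietyA.GlobGen
import Groth.Agent.VarietyA.DegRank
import Groth.Agent.Dcoh.FinLocFree
import Groth.Agent.S1524
import Groth.Agent.VarietyB.DegPhi
import Groth.Agent.PerfA.CohSerre
import Mathlib.AlgebraicGeometry.Morphisms.Finite

/-!
# Euler characteristics from lengths of stalks

* `residueFieldMap_finite`: the residue field of a closed point is finite over the base field;
* `euler_eq_of_length`: coherent modules with zero-dimensional support and stalks of equal lengths have the same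
  Euler characteristic;
* `euler_freeMod`: `χ(O^n) = n χ(O)`.
-/

set_option autoImplicit false
universe u
open CategoryTheory CategoryTheory.Limits AlgebraicGeometry TopologicalSpace Opposite

namespace K420.LenEuler

open Groth.Agent

theorem residueFieldMap_finite {k : Type u} [Field k] {X : Scheme.{u}}
    (f : X ⟶ Spec (CommRingCat.of k)) [LocallyOfFiniteType f] (x : X) (hx : IsClosed ({x} : Set X)) :
    (f.residueFieldMap x).hom.Finite := by
  have : JacobsonSpace X := LocallyOfFiniteType.jacobsonSpace f
  have h1 : LocallyOfFiniteType (X.fromSpecResidueField x) :=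
    isClosed_singleton_iff_locallyOfFiniteType.mp hx
  have h2 : LocallyOfFiniteType (Spec.map (f.residueFieldMap x) ≫
      (Spec (CommRingCat.of k)).fromSpecResidueField (f x)) := by
    rw [Scheme.Hom.SpecMap_residueFieldMap_fromSpecResidueField]
    infer_instance
  have h3 : LocallyOfFiniteType (Spec.map (f.residueFieldMap x)) := locallyOfFiniteType_of_comp _
    ((Spec (CommRingCat.of k)).fromSpecResidueField (f x))
  rw [HasRingHomProperty.Spec_iff (P := @LocallyOfFiniteType)] at h3
  algebraize [(f.residueFieldMap x).hom]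
  exact finite_of_finite_type_of_isJacobsonRing ((Spec (CommRingCat.of k)).residueField (f x))
    (X.residueField x)

section

variable (k : Type u) [Field k] {X : Scheme.{u}} [X.Over (Spec (CommRingCat.of k))]
  [IsProper (X ↘ Spec (CommRingCat.of k))]

/-- Coherent modules with zero-dimensional support and stalks of equal lengths have the same Euler
characteristic. -/
theorem euler_eq_of_length {P Q : X.Modules} (hP : Coh.IsCoh P) (hQ : Coh.IsCoh Q)
    (hPd : topologicalKrullDim (CohB1.support P) ≤ 0) (hQd : topologicalKrullDim (CohB1.support Q) ≤ 0)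
    (h : ∀ x : X, Module.length (X.presheaf.stalk x) (P.presheaf.stalk x) =
      Module.length (X.presheaf.stalk x) (Q.presheaf.stalk x)) :
    Curv2.euler k X P = Curv2.euler k X Q := by
  have hN : IsNoetherian X := VarietyA.GlobGen.isNoetherian_of_finiteType (X ↘ (Spec (CommRingCat.of k)))
  let Z : Set X := CohB1.support P ∪ CohB1.support Q
  have hZ : Z.Finite := (VarietyA.GlobGen.finite_support P hP.2 hPd).union
    (VarietyA.GlobGen.finite_support Q hQ.2 hQd)
  have hZc : ∀ x ∈ Z, IsClosed ({x} : Set X) := by
    rintro x (hx | hx)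
    · exact VarietyA.GlobGen.isClosed_singleton_of_mem_support P hP.2 hPd hx
    · exact VarietyA.GlobGen.isClosed_singleton_of_mem_support Q hQ.2 hQd hx
  have hfin : ∀ x ∈ Z, ((X ↘ Spec (CommRingCat.of k)).residueFieldMap x).hom.Finite := fun x hx =>
    residueFieldMap_finite _ x (hZc x hx)
  have hsP : ∀ x, x ∉ Z → Subsingleton (P.presheaf.stalk x) := fun x hx => by
    by_contra h; exact hx (Or.inl h)
  have hsQ : ∀ x, x ∉ Z → Subsingleton (Q.presheaf.stalk x) := fun x hx => by
    by_contra h; exact hx (Or.inr h)
  rw [CycB.DegSky.euler_eq_sum k X P hP hZ hZc hsP hfin,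
    CycB.DegSky.euler_eq_sum k X Q hQ hZ hZc hsQ hfin]
  exact Finset.sum_congr rfl fun x _ => by rw [h x]

omit [X.Over (Spec (CommRingCat.of k))] [IsProper (X ↘ Spec (CommRingCat.of k))] in
theorem isCoh_freeMod (n : ℕ) : Coh.IsCoh (FlatMod.freeMod X n) :=
  VarietyB.DegPhi.isCoh_of_hasBases fun x =>
    VarietyB.ExactLoc.hasBasis_of_isFinLocFree (Dcoh.FinLocFree.isFinLocFree_freeMod X n) x

theorem euler_biprod {P Q : X.Modules} (hP : Coh.IsCoh P) (hQ : Coh.IsCoh Q) (h : Coh.IsCoh (P ⊞ Q)) :
    Curv2.euler k X (P ⊞ Q) = Curv2.euler k X P + Curv2.euler k X Q := by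
  let S : ShortComplex X.Modules := ShortComplex.mk (biprod.inl : P ⟶ P ⊞ Q) biprod.snd (by simp)
  have hS : S.ShortExact := (ShortComplex.Splitting.ofHasBinaryBiproduct P Q).shortExact
  have h1 : Coh.IsCoh S.X₁ := hP
  have h2 : Coh.IsCoh S.X₂ := h
  have h3 : Coh.IsCoh S.X₃ := hQ
  have h4 := S1524.result k X S hS h1 h2 h3
  exact h4

theorem euler_freeMod_add (m n : ℕ) : Curv2.euler k X (FlatMod.freeMod X (m + n)) =
    Curv2.euler k X (FlatMod.freeMod X m) + Curv2.euler k X (FlatMod.freeMod X n) := by
  obtain ⟨e⟩ := Dcoh.FinLocFree.nonempty_biprod_freeMod_iso X m n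
  rw [← VarietyA.DegRank.euler_iso k e]
  exact euler_biprod k (isCoh_freeMod m) (isCoh_freeMod n)
    (PerfA.CohSerre.isCoh_of_iso e.symm (isCoh_freeMod (m + n)))

theorem euler_freeMod (n : ℕ) :
    Curv2.euler k X (FlatMod.freeMod X n) = n * Curv2.euler k X (Coh.structureModule X) := by
  induction n with
  | zero =>
    have h := euler_freeMod_add k (X := X) 0 0
    simp only [add_zero] at h
    push_cast
    linarith
  | succ n ih =>
    have h1 : Curv2.euler k X (FlatMod.freeMod X 1) = Curv2.euler k X (Coh.structureModule X) :=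
      VarietyA.DegRank.euler_iso k
        (Limits.coproductUniqueIso (fun _ : Fin 1 => Coh.structureModule X))
    rw [euler_freeMod_add, ih, h1]
    push_cast
    ring

end

end K420.LenEuler
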