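import Groth.Agent.Variety.K420.DetLen
import Groth.Agent.Variety.K420.LenEuler
import Groth.Agent.Sga67.ExtSheaf
import Groth.Agent.Krr.H487.KerRank
import Groth.Agent.Krr.H487.LocBasisPull
import Groth.Agent.Dcoh.FreeSec
import Groth.Agent.Sga67.CohBasic

/-!
# The degree of a vector bundle with generically independent sections and of its determinant

* `exists_wedge`: the section `s_1 ∧ ⋯ ∧ s_n` of an exterior power;
* `deg_eq_of_sections`: on an integral proper curve, for `E` of rank `n` with `n` global sections which are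
  independent at the generic point and `L` an `n`-th exterior power, `deg E = deg L`.
-/

set_option autoImplicit false
universe u
open CategoryTheory CategoryTheory.Limits AlgebraicGeometry TopologicalSpace Opposite

namespace K420.DetDeg

open Groth.Agent Groth.Agent.Sga67.Sec Groth.Agent.Sga67.LocBasis Groth.Agent.Sga67.LocBasisStalk
open Groth.Agent.Sga67.ExtSheaf Groth.Agent.CycB.StalkExact

variable {X : Scheme.{u}} {n : ℕ} {E L : X.Modules}

/-- The property of the section `s_1 ∧ ⋯ ∧ s_n`. -/
def IsWedge (Φ : Phi n E L) (s : Fin n → Sec E (⊤ : X.Opens)) (ψ : Coh.structureModule X ⟶ L) : Prop :=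
  ∀ U : X.affineOpens, appS ψ U.1 (one X U.1) =
    (Φ U).symm (exteriorPower.ιMulti _ n (fun j => res E le_top (s j)))

theorem exists_wedge {Φ : Phi n E L} (hΦ : PhiComp Φ) (s : Fin n → Sec E (⊤ : X.Opens)) :
    ∃ ψ : Coh.structureModule X ⟶ L, IsWedge Φ s ψ := by
  obtain ⟨ψ, hψ⟩ := exists_hom_of_basis' (affineBasis X) (Coh.structureModule X) L
    (fun U => { toFun := fun a => toO a •
                  (Φ U).symm (exteriorPower.ιMulti _ n (fun j => res E le_top (s j)))
                map_add' := fun a b => by rw [toO_add, add_smul]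
                map_smul' := fun r a => by rw [toO_smul, mul_smul, RingHom.id_apply] })
    (by
      intro U V h a
      simp only [LinearMap.coe_mk, AddHom.coe_mk]
      rw [res_smul, toO_res, hΦ U V h]
      simp only [res_res])
  refine ⟨ψ, fun U => ?_⟩
  rw [hψ U]
  simp only [LinearMap.coe_mk, AddHom.coe_mk]
  rw [toO_one, one_smul]

/-- The full subset. -/
def full (n : ℕ) : Set.powersetCard (Fin n) n := ⟨Finset.univ, by simp [Set.powersetCard.mem_iff]⟩

theorem eq_full (I : Set.powersetCard (Fin n) n) : I = full n := by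
  apply Subtype.ext
  apply Finset.eq_univ_of_card
  rw [Fintype.card_fin]
  exact I.2

theorem family_full {R M : Type*} [CommRing R] [AddCommGroup M] [Module R M] (v : Fin n → M) :
    exteriorPower.ιMulti_family R n v (full n) = exteriorPower.ιMulti R n v := by
  rw [exteriorPower.ιMulti_family]
  congr 1
  have h : (id : Fin n → Fin n) = ((full n).val.orderEmbOfFin (full n).2 : Fin n → Fin n) :=
    Finset.orderEmbOfFin_unique (full n).2 (f := id) (fun x => Finset.mem_univ x) strictMono_id
  change v ∘ ((full n).val.orderEmbOfFin (full n).2 : Fin n → Fin n) = v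
  rw [← h]
  rfl

theorem bijective_toSpanSingleton {R N κ : Type*} [CommRing R] [AddCommGroup N] [Module R N]
    [Fintype κ] (γ : Module.Basis κ R N) (i₀ : κ) (h : ∀ i, i = i₀) :
    Function.Bijective (LinearMap.toSpanSingleton R N (γ i₀)) := by
  constructor
  · rw [injective_iff_map_eq_zero]
    intro a ha
    rw [LinearMap.toSpanSingleton_apply] at ha
    have h1 := congrArg (fun m => γ.repr m i₀) ha
    simpa using h1
  · intro m
    refine ⟨γ.repr m i₀, ?_⟩
    rw [LinearMap.toSpanSingleton_apply]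
    conv_rhs => rw [← γ.sum_repr m]
    rw [Finset.sum_eq_single i₀ (fun i _ hi => absurd (h i) hi) (fun hi => absurd (Finset.mem_univ _) hi)]

/-- The stalk computation near a point. -/
theorem wedge_local {Φ : Phi n E L} (hΦ : PhiComp Φ) (s : Fin n → Sec E (⊤ : X.Opens))
    {ψ : Coh.structureModule X ⟶ L} (hψ : IsWedge Φ s ψ) {U : X.affineOpens} {b : Fin n → Sec E U.1}
    (hb : IsLocBasis b) : ∃ d : Γ(X, U.1), ∀ (y : X) (hy : y ∈ U.1),
      ∃ (β : Module.Basis (Fin n) (X.presheaf.stalk y) (E.presheaf.stalk y))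
        (w : L.presheaf.stalk y), Function.Bijective (LinearMap.toSpanSingleton (X.presheaf.stalk y) _ w) ∧
        β.det (fun j => ger E y (Opens.mem_top y) (s j)) = gerO y hy d ∧
        stalkLin ψ y (ger (Coh.structureModule X) y (Opens.mem_top y) (one X ⊤)) =
          β.det (fun j => ger E y (Opens.mem_top y) (s j)) • w := by
  let B := hb.basis (le_refl U.1)
  have hB : ∀ i, B i = b i := fun i => by
    rw [IsLocBasis.basis_apply, res_self]
  let v : Fin n → Sec E U.1 := fun j => res E le_top (s j)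
  refine ⟨B.det v, fun y hy => ?_⟩
  obtain ⟨β, hβ⟩ := Krr.H487.LocBasisPull.exists_stalkBasis hb y hy
  obtain ⟨γ, hγ⟩ := Krr.H487.LocBasisPull.exists_stalkBasis (isLocBasis_extPow Φ hΦ hb) y hy
  have hdet : β.det (fun j => ger E y (Opens.mem_top y) (s j)) = gerO y hy (B.det v) := by
    have h1 : β.toMatrix (fun j => ger E y (Opens.mem_top y) (s j)) =
        (B.toMatrix v).map (gerO y hy) := by
      ext i j
      rw [Module.Basis.toMatrix_apply, Matrix.map_apply, Module.Basis.toMatrix_apply]
      have h2 : ger E y (Opens.mem_top y) (s j) = ∑ i, gerO y hy (B.repr (v j) i) • β i := by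
        have h3 : ger E y (Opens.mem_top y) (s j) = ger E y hy (v j) :=
          (ger_res E le_top y hy (s j)).symm
        rw [h3]
        conv_lhs => rw [← B.sum_repr (v j)]
        rw [ger_sum]
        refine Finset.sum_congr rfl fun i _ => ?_
        rw [ger_smul, hB, hβ]
      rw [h2, map_sum, Finsupp.finsetSum_apply]
      simp only [map_smul, Module.Basis.repr_self, Finsupp.smul_apply, smul_eq_mul]
      rw [Finset.sum_eq_single i]
      · simp
      · intro k _ hk
        simp [hk]
      · simp
    rw [Module.Basis.det_apply, h1, Module.Basis.det_apply]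
    exact ((X.presheaf.germ U.1 y hy).hom.map_det (B.toMatrix v)).symm
  refine ⟨β, γ (full n), bijective_toSpanSingleton γ (full n) eq_full, hdet, ?_⟩
  rw [hdet, stalkLin_ger]
  have h4 : ger L y (Opens.mem_top y) (appS ψ ⊤ (one X ⊤)) = ger L y hy (appS ψ U.1 (one X U.1)) := by
    rw [← res_one X (le_top : U.1 ≤ ⊤), appS_res, ger_res]
  rw [h4, hψ U]
  have h5 : exteriorPower.ιMulti Γ(X, U.1) n v = B.det v • exteriorPower.ιMulti Γ(X, U.1) n b := by
    have h6 := DetLen.alternating_eq B (exteriorPower.ιMulti Γ(X, U.1) n) v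
    rw [h6]
    congr 2
    funext i
    exact hB i
  change ger L y hy ((Φ U).symm (exteriorPower.ιMulti Γ(X, U.1) n v)) = _
  rw [h5, map_smul, ger_smul, hγ, family_full]

/-- On an integral scheme: sections independent at the generic point. -/
theorem wedge_point [IsIntegral X] (hE : FlatMod.IsFinLocFreeOfRank n E) {Φ : Phi n E L}
    (hΦ : PhiComp Φ) (s : Fin n → Sec E (⊤ : X.Opens))
    (hs : LinearIndependent (X.presheaf.stalk (genericPoint X))
      (fun j => ger E (genericPoint X) (Opens.mem_top _) (s j)))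
    {ψ : Coh.structureModule X ⟶ L} (hψ : IsWedge Φ s ψ) (x : X) :
    ∃ (β : Module.Basis (Fin n) (X.presheaf.stalk x) (E.presheaf.stalk x))
        (w : L.presheaf.stalk x), Function.Bijective (LinearMap.toSpanSingleton (X.presheaf.stalk x) _ w) ∧
        β.det (fun j => ger E x (Opens.mem_top x) (s j)) ∈ nonZeroDivisors (X.presheaf.stalk x) ∧
        stalkLin ψ x (ger (Coh.structureModule X) x (Opens.mem_top x) (one X ⊤)) =
          β.det (fun j => ger E x (Opens.mem_top x) (s j)) • w := by
  obtain ⟨U, hxU, b, hb⟩ := (Krr.H487.KerRank.isFinLocFreeOfRank_iff _).mp hE x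
  obtain ⟨_, ⟨W, rfl⟩, hxW, hW⟩ := Opens.isBasis_iff_nbhd.mp (affineBasis X) hxU
  obtain ⟨d, hd⟩ := wedge_local hΦ s hψ (hb.restrict hW)
  have hη : genericPoint X ∈ W.1 :=
    ((genericPoint_spec X).mem_open_set_iff W.1.isOpen).mpr (by simpa using ⟨x, hxW⟩)
  have hd0 : d ≠ 0 := by
    obtain ⟨β, w, -, h1, -⟩ := hd (genericPoint X) hη
    rintro rfl
    have h2 : gerO (genericPoint X) hη (0 : Γ(X, W.1)) = 0 := map_zero _
    rw [h2] at h1
    exact DetLen.det_ne_zero_of_linearIndependent β _ hs h1
  obtain ⟨β, w, hw, h1, h2⟩ := hd x hxW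
  refine ⟨β, w, hw, ?_, h2⟩
  rw [h1, mem_nonZeroDivisors_iff_ne_zero]
  intro h0
  apply hd0
  have hinj := germ_injective_of_isIntegral X x hxW
  exact hinj (h0.trans (map_zero _).symm)

section Main

variable (k : Type u) [Field k] [X.Over (Spec (CommRingCat.of k))]
  [IsProper (X ↘ Spec (CommRingCat.of k))] [IsIntegral X]

omit [IsIntegral X] in
theorem range_ofSecs (s : Fin n → Sec E (⊤ : X.Opens)) (x : X) :
    LinearMap.range (stalkLin (Dcoh.FreeSec.ofSecs E s) x) =
      Submodule.span (X.presheaf.stalk x) (Set.range fun j => ger E x (Opens.mem_top x) (s j)) := by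
  rw [LinearMap.range_eq_map, ← Dcoh.FreeSec.span_stalk_free n x, Submodule.map_span,
    ← Set.range_comp]
  congr 2
  funext j
  have h := stalkLin_germ (Dcoh.FreeSec.ofSecs E s) (U := ⊤) x trivial (Dcoh.FreeSec.e X j)
  refine h.trans ?_
  rw [Dcoh.FreeSec.ofSecs_app_e]
  rfl

omit [IsIntegral X] in
theorem ofSecs_sum (s : Fin n → Sec E (⊤ : X.Opens)) (x : X) (a : Fin n → X.presheaf.stalk x) :
    stalkLin (Dcoh.FreeSec.ofSecs E s) x (Dcoh.FreeSec.stalkFree n x a) =
      ∑ j, a j • ger E x (Opens.mem_top x) (s j) := by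
  rw [Dcoh.FreeSec.stalkFree_apply, map_sum]
  refine Finset.sum_congr rfl fun j _ => ?_
  rw [map_smul]
  congr 1
  have h := stalkLin_germ (Dcoh.FreeSec.ofSecs E s) (U := ⊤) x trivial (Dcoh.FreeSec.e X j)
  refine h.trans ?_
  rw [Dcoh.FreeSec.ofSecs_app_e]
  rfl

omit [IsIntegral X] in
theorem length_cokernel {F G : X.Modules} (φ : F ⟶ G) [Mono φ] (x : X) :
    Module.length (X.presheaf.stalk x) ((cokernel φ).presheaf.stalk x) =
      Module.length (X.presheaf.stalk x)
        (G.presheaf.stalk x ⧸ LinearMap.range (stalkLin φ x)) := by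
  obtain ⟨h1, h2, h3⟩ := stalkLin_shortExact _ (VarietyA.StalkCrit.shortExact_cokernel φ) x
  have h4 := ((stalkLin (cokernel.π φ) x).quotKerEquivOfSurjective h3).length_eq
  rw [← h4]
  have h5 : LinearMap.ker (stalkLin (cokernel.π φ) x) = LinearMap.range (stalkLin φ x) :=
    LinearMap.exact_iff.mp h2
  rw [h5]

/-- On an integral proper curve, a vector bundle of rank `n` with `n` sections independent at the generic
point has the degree of its determinant. -/
theorem deg_eq_of_sections (hdim : topologicalKrullDim X ≤ 1) (hE : FlatMod.IsFinLocFreeOfRank n E)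
    (hL : ExtPow.IsExtPow n E L) (s : Fin n → Sec E (⊤ : X.Opens))
    (hs : LinearIndependent (X.presheaf.stalk (genericPoint X))
      (fun j => ger E (genericPoint X) (Opens.mem_top _) (s j))) :
    Curv2.deg k X E n = Curv2.deg k X L 1 := by
  have hN : IsNoetherian X := VarietyA.GlobGen.isNoetherian_of_finiteType (X ↘ (Spec (CommRingCat.of k)))
  obtain ⟨Φ, hΦ⟩ := exists_phi hL
  obtain ⟨ψ, hψ⟩ := exists_wedge hΦ s
  let φ : FlatMod.freeMod X n ⟶ E := Dcoh.FreeSec.ofSecs E s
  have key := wedge_point hE hΦ s hs hψ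
  have hLr : FlatMod.IsFinLocFreeOfRank 1 L := by
    have := Krr.H487.KerRank.isFinLocFreeOfRank_extPow hE hL
    rwa [Nat.choose_self] at this
  have hcE : Coh.IsCoh E := VarietyB.DegPhi.isCoh_of_hasBases fun x =>
    VarietyB.ExactLoc.hasBasis_of_isFinLocFree (Krr.H487.KerRank.isFinLocFree_of_rank hE) x
  have hcL : Coh.IsCoh L := VarietyB.DegPhi.isCoh_of_hasBases fun x =>
    VarietyB.ExactLoc.hasBasis_of_isFinLocFree (Krr.H487.KerRank.isFinLocFree_of_rank hLr) x
  have hcF : Coh.IsCoh (FlatMod.freeMod X n) := LenEuler.isCoh_freeMod n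
  have hcO : Coh.IsCoh (Coh.structureModule X) := CurvesB.UnitCoh.isCoh_structureModule X
  -- injectivity
  have hφ : ∀ x, Function.Injective (stalkLin φ x) := by
    intro x
    obtain ⟨β, w, hw, hdet, -⟩ := key x
    rw [injective_iff_map_eq_zero]
    intro m hm
    obtain ⟨a, rfl⟩ := (Dcoh.FreeSec.stalkFree n x).surjective m
    rw [ofSecs_sum] at hm
    rw [DetLen.eq_zero_of_sum β _ hdet a hm, map_zero]
  have hone : ∀ (x : X) (m : (Coh.structureModule X).presheaf.stalk x), ∃ r : X.presheaf.stalk x,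
      m = r • ger (Coh.structureModule X) x (Opens.mem_top x) (one X ⊤) := by
    intro x m
    obtain ⟨r, rfl⟩ := (Dcoh.FreeSec.stalkUnit x).surjective m
    exact ⟨r, rfl⟩
  have hψi : ∀ x, Function.Injective (stalkLin ψ x) := by
    intro x
    obtain ⟨β, w, hw, hdet, h1⟩ := key x
    rw [injective_iff_map_eq_zero]
    intro m hm
    obtain ⟨r, rfl⟩ := hone x m
    rw [map_smul, h1, smul_smul] at hm
    have h2 : r * β.det (fun j => ger E x (Opens.mem_top x) (s j)) = 0 := by
      apply hw.1
      rw [map_zero, LinearMap.toSpanSingleton_apply]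
      exact hm
    rw [(mul_right_mem_nonZeroDivisors_eq_zero_iff hdet).mp h2, zero_smul]
  have hmφ : Mono φ := Dcoh.StalkMod.mono_of_injective φ hφ
  have hmψ : Mono ψ := Dcoh.StalkMod.mono_of_injective ψ hψi
  -- lengths
  have hrψ : ∀ x, ∀ (c : L.presheaf.stalk x),
      stalkLin ψ x (ger (Coh.structureModule X) x (Opens.mem_top x) (one X ⊤)) = c →
      LinearMap.range (stalkLin ψ x) = Submodule.span (X.presheaf.stalk x) {c} := by
    rintro x c rfl
    ext m
    rw [Submodule.mem_span_singleton]
    constructor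
    · rintro ⟨t, rfl⟩
      obtain ⟨r, rfl⟩ := hone x t
      exact ⟨r, (map_smul _ _ _).symm⟩
    · rintro ⟨r, rfl⟩
      exact ⟨r • _, map_smul _ _ _⟩
  have hlen : ∀ x, Module.length (X.presheaf.stalk x) ((cokernel φ).presheaf.stalk x) =
      Module.length (X.presheaf.stalk x) ((cokernel ψ).presheaf.stalk x) := by
    intro x
    obtain ⟨β, w, hw, hdet, h1⟩ := key x
    rw [length_cokernel φ x, length_cokernel ψ x, range_ofSecs, hrψ x _ h1]
    exact DetLen.length_quot_eq β _ hdet w hw
  have hηψ : Subsingleton ((cokernel ψ).presheaf.stalk (genericPoint X)) := by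
    rw [VarietyA.StalkCrit.subsingleton_cokernel_stalk_iff]
    obtain ⟨β, w, hw, hdet, h1⟩ := key (genericPoint X)
    have hK : IsField (X.presheaf.stalk (genericPoint X)) :=
      MulEquiv.isField (Field.toIsField X.functionField) (MulEquiv.refl _)
    obtain ⟨u, hu⟩ := hK.mul_inv_cancel (nonZeroDivisors.ne_zero hdet)
    intro m
    obtain ⟨r, rfl⟩ := hw.2 m
    refine ⟨(r * u) • ger (Coh.structureModule X) _ (Opens.mem_top _) (one X ⊤), ?_⟩
    rw [map_smul, h1, smul_smul, LinearMap.toSpanSingleton_apply, mul_assoc, mul_comm u, hu, mul_one]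
  have hηφ : Subsingleton ((cokernel φ).presheaf.stalk (genericPoint X)) := by
    rw [← Module.length_eq_zero_iff (R := X.presheaf.stalk (genericPoint X)), hlen,
      Module.length_eq_zero_iff]
    exact hηψ
  have hcφ : Coh.IsCoh (cokernel φ) := Sga67.CohBasic.isCoh_cokernel φ hcF.1 hcE
  have hcψ : Coh.IsCoh (cokernel ψ) := Sga67.CohBasic.isCoh_cokernel ψ hcO.1 hcL
  have hdφ := VarietyA.DegRank.dim_support_le_zero hdim _ hcφ (fun h => h hηφ)
  have hdψ := VarietyA.DegRank.dim_support_le_zero hdim _ hcψ (fun h => h hηψ)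
  have e1 := S1524.result k X _ (VarietyA.StalkCrit.shortExact_cokernel φ) hcF hcE hcφ
  have e2 := S1524.result k X _ (VarietyA.StalkCrit.shortExact_cokernel ψ) hcO hcL hcψ
  have e3 := LenEuler.euler_eq_of_length k hcφ hcψ hdφ hdψ hlen
  have e4 := LenEuler.euler_freeMod k (X := X) n
  simp only at e1 e2
  unfold Curv2.deg
  rw [e1, e2, e3, e4]
  push_cast
  ring

end Main

end K420.DetDeg
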