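import Mathlib.Topology.KrullDimension
import Mathlib.Topology.NoetherianSpace
import Groth.Agent.VarietyB.DegCartier

/-!
# The support of an effective Cartier divisor has smaller dimension

* `dim_le_of_dense_compl`: in a Noetherian space of dimension `≤ n + 1` a closed subset with dense complement has
  dimension `≤ n`.
* `dim_support_quotMod`: for an effective Cartier divisor `D` on `X` of dimension `≤ n + 1`, `dim Supp O_D ≤ n`.
-/

set_option autoImplicit false
universe u
open CategoryTheory CategoryTheory.Limits AlgebraicGeometry TopologicalSpace Topology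

namespace K420.DimDrop

/-- In a Noetherian space of dimension `≤ n + 1` a closed subset with dense complement has dimension `≤ n`. -/
theorem dim_le_of_dense_compl {X : Type*} [TopologicalSpace X] [NoetherianSpace X] (n : ℕ)
    (h : topologicalKrullDim X ≤ ((n + 1 : ℕ) : WithBot ℕ∞)) (Z : Set X) (hZ : IsClosed Z)
    (hd : Dense Zᶜ) : topologicalKrullDim Z ≤ n := by
  refine iSup_le fun p ↦ ?_
  have hind : IsInducing (Subtype.val : Z → X) := IsInducing.subtypeVal
  let φ := IrreducibleCloseds.map (Subtype.val : Z → X) hind.continuous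
  have hφ : StrictMono φ := IrreducibleCloseds.map_strictMono_of_isInducing hind
  have hsub : ∀ W : IrreducibleCloseds Z, (φ W : Set X) ⊆ Z := fun W ↦ by
    refine closure_minimal ?_ hZ
    rintro _ ⟨z, -, rfl⟩
    exact z.2
  obtain ⟨W, hW, hpW⟩ := exists_mem_irreducibleComponents_subset_of_isIrreducible
    (φ p.last : Set X) (φ p.last).isIrreducible
  obtain ⟨V, hV, hVne, hVW⟩ :=
    NoetherianSpace.exists_isOpen_nonempty_subset_irreducibleComponent W hW
  obtain ⟨v, hvV, hvU⟩ := hd.inter_open_nonempty V hV hVne
  let W' : IrreducibleCloseds X := ⟨W, hW.1, isClosed_of_mem_irreducibleComponents W hW⟩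
  have hlt2 : φ p.last < W' := by
    refine lt_of_le_of_ne hpW fun e ↦ ?_
    have h1 : v ∈ (φ p.last : Set X) := by
      rw [e]; exact hVW hvV
    exact hvU (hsub _ h1)
  let q : LTSeries (IrreducibleCloseds X) := (p.map φ hφ).snoc W' (by simpa using hlt2)
  have h1 : ((q.length : ℕ) : WithBot ℕ∞) ≤ topologicalKrullDim X := Order.LTSeries.length_le_krullDim q
  have h2 : q.length = p.length + 1 := by
    change ((p.map φ hφ).snoc W' _).length = _
    rw [RelSeries.snoc_length]
    rfl
  have h3 := h1.trans h
  rw [h2] at h3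
  have h4 : p.length + 1 ≤ n + 1 := by exact_mod_cast h3
  exact_mod_cast (Nat.succ_le_succ_iff.mp h4)

/-- For an effective Cartier divisor `D` on a Noetherian scheme of dimension `≤ n + 1`, `dim D ≤ n`. -/
theorem dim_support_le (X : Scheme.{u}) [IsNoetherian X] (n : ℕ)
    (hdim : topologicalKrullDim X ≤ ((n + 1 : ℕ) : WithBot ℕ∞)) (D : X.IdealSheafData)
    (hD : BlowUp.IsEffCartierIdeal D) :
    topologicalKrullDim (D.support : Set X) ≤ n :=
  dim_le_of_dense_compl n hdim _ D.support.isClosed
    (Groth.Agent.VarietyB.DegFin.dense_compl_support X D hD)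

theorem dim_support_quotMod (X : Scheme.{u}) [IsNoetherian X] (n : ℕ)
    (hdim : topologicalKrullDim X ≤ ((n + 1 : ℕ) : WithBot ℕ∞)) (D : X.IdealSheafData)
    (hD : BlowUp.IsEffCartierIdeal D) :
    topologicalKrullDim (CohB1.support (ClSub.quotMod D)) ≤ n := by
  refine le_trans ?_ (dim_support_le X n hdim D hD)
  exact (Topology.IsInducing.subtypeVal.of_comp_iff
    (f := Set.inclusion (Groth.Agent.VarietyB.DegCartier.support_quotMod_subset D))
    |>.mp Topology.IsInducing.subtypeVal).topologicalKrullDim_le

end K420.DimDrop
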