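import Groth.Agent.Variety.K420.PolyNat
import Groth.Agent.Fga.SnapperTwist
import Groth.Agent.Fga.IntAdd
import Groth.Agent.S1528
import Groth.Agent.EtpbcA.CdFinDim

/-!
# The coefficient of `n_1 ⋯ n_r` in the Snapper polynomial is the intersection number

* `eulerCl k F : MC X → ℤ`, `c ↦ χ(c ⊗ F)`; `euler_tensorPows`.
* `totalDegree_le`: any polynomial computing `χ(F ⊗ L^n)` has total degree at most `dim Supp F`.
* `eval_neg`: its values at negative integers are the Euler characteristics of the twists by the inverses.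
* `coeff_eq_intNum`: for `dim Supp F ≤ r` the coefficient of `n_1 ⋯ n_r` is the prelude's `FGA.intNum k X d M F`
  (`M i` an inverse of `L i`).
-/

set_option autoImplicit false
universe u
open CategoryTheory CategoryTheory.Limits AlgebraicGeometry Opposite

namespace K420.IntCoeff

open Groth.Agent Groth.Agent.Ega2 Groth.Agent.Fga.PicMon Groth.Agent.Fga.AltSum K420.PolyNat

variable (k : Type u) [Field k] {X : Scheme.{u}} [X.Over (Spec (CommRingCat.of k))]

theorem euler_congr {F G : X.Modules} (e : F ≅ G) : Curv2.euler k X F = Curv2.euler k X G := by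
  unfold Curv2.euler
  refine finsum_congr fun i => ?_
  rw [(hmapEquiv k X e i).finrank_eq]

/-- `c ↦ χ(c ⊗ F)` on classes of modules. -/
noncomputable def eulerCl (F : X.Modules) : MC X → ℤ :=
  onCl (fun L => Curv2.euler k X (CohB1.tensorMod L F))
    (fun _ _ ⟨e⟩ => euler_congr k (Tens.mapTIso e (Iso.refl F)))

theorem eulerCl_mc (F L : X.Modules) :
    eulerCl k F (mc L) = Curv2.euler k X (CohB1.tensorMod L F) := rfl

theorem eulerCl_one (F : X.Modules) : eulerCl k F 1 = Curv2.euler k X F := by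
  rw [← mc_one, eulerCl_mc]
  exact euler_congr k (Tens.lunit F)

theorem eulerCl_tensor (F A : X.Modules) (c : MC X) :
    eulerCl k (CohB1.tensorMod A F) c = eulerCl k F (mc A * c) := by
  induction c using MC.ind with | h L => ?_
  rw [← mc_tensor, eulerCl_mc, eulerCl_mc]
  refine euler_congr k ?_
  exact (Tens.assoc L A F).symm ≪≫ Tens.mapTIso (Tens.swap L A) (Iso.refl F)

theorem eulerCl_iso {F G : X.Modules} (e : F ≅ G) : eulerCl k F = eulerCl k G := by
  funext c
  induction c using MC.ind with | h L => ?_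
  exact euler_congr k (Tens.mapTIso (Iso.refl L) e)

/-- `χ(F ⊗ L^n)` in terms of classes. -/
theorem euler_tensorPows (F : X.Modules) {r : ℕ} (L : Fin r → X.Modules) (n : Fin r → ℕ) :
    Curv2.euler k X (Curv2.tensorPows F r L n) = eulerCl k F (∏ i, mc (L i) ^ n i) := by
  obtain ⟨e⟩ := Fga.SnapperTwist.tensorPows_iso F r L n
  rw [euler_congr k e, ← mc_multiTwist, eulerCl_mc]

variable [IsProper (X ↘ Spec (CommRingCat.of k))]

/-- A polynomial computing `χ(F ⊗ L^n)` has total degree at most `dim Supp F`. -/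
theorem totalDegree_le {F : X.Modules} (hF : Coh.IsCoh F) {d : ℕ}
    (hsupp : topologicalKrullDim (CohB1.support F) ≤ d) {r : ℕ} {L : Fin r → X.Modules}
    (hL : ∀ i, PicF.IsInvertible (L i)) {P : MvPolynomial (Fin r) ℚ}
    (hP : ∀ n : Fin r → ℕ, (Curv2.euler k X (Curv2.tensorPows F r L n) : ℚ) =
      MvPolynomial.eval (fun i => (n i : ℚ)) P) : P.totalDegree ≤ d := by
  obtain ⟨Q, hQ, hQ'⟩ := S1528.result k X F hF d hsupp r L hL
  have : P = Q := eq_of_nat' P Q fun n => by rw [← hP n, ← hQ' n]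
  rw [this]
  exact hQ

/-- Values of the Snapper polynomial at negative integers. -/
theorem eval_neg {F : X.Modules} (hF : Coh.IsCoh F) {r : ℕ} {L M : Fin r → X.Modules}
    (hL : ∀ i, PicF.IsInvertible (L i)) (hM : ∀ i, PicF.IsInvertible (M i))
    (hLM : ∀ i, mc (L i) * mc (M i) = 1) {P : MvPolynomial (Fin r) ℚ}
    (hP : ∀ n : Fin r → ℕ, (Curv2.euler k X (Curv2.tensorPows F r L n) : ℚ) =
      MvPolynomial.eval (fun i => (n i : ℚ)) P) (t : Fin r → ℕ) :
    ((eulerCl k F (∏ i, mc (M i) ^ t i) : ℤ) : ℚ) = MvPolynomial.eval (fun i => -(t i : ℚ)) P := by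
  have hN : IsNoetherian X := Fga.SnapperTwist.isNoetherian_of_proper k X
  -- the twist by `M^t`
  set G : X.Modules := CohB1.tensorMod (FGA.multiTwist M t) F with hG
  have hGc : Coh.IsCoh G :=
    Fga.SnapperTwist.isCoh_tensor' (Fga.SnapperTwist.isInvertible_multiTwist M hM t) hF
  obtain ⟨d, hd⟩ : ∃ d : ℕ, topologicalKrullDim (CohB1.support G) ≤ d := by
    obtain ⟨d, hd⟩ := EtpbcA.CdFinDim.exists_dim_le (X ↘ Spec (CommRingCat.of k))
    exact ⟨d, (topologicalKrullDim_subspace_le X _).trans hd⟩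
  obtain ⟨Q, -, hQ⟩ := S1528.result k X G hGc d hd r L hL
  have hval : ∀ n : Fin r → ℕ, Curv2.euler k X (Curv2.tensorPows G r L n) =
      eulerCl k F ((∏ i, mc (M i) ^ t i) * ∏ i, mc (L i) ^ n i) := by
    intro n
    rw [euler_tensorPows, hG, eulerCl_tensor, mc_multiTwist]
  have key : Q = MvPolynomial.bind₁ (fun i => MvPolynomial.X i - MvPolynomial.C (t i : ℚ)) P := by
    refine eq_of_nat _ _ t fun n => ?_
    rw [eval_shift, ← hQ, hval]
    have h1 : (∏ i, mc (M i) ^ t i) * ∏ i, mc (L i) ^ (n i + t i) = ∏ i, mc (L i) ^ n i := by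
      rw [← Finset.prod_mul_distrib]
      refine Finset.prod_congr rfl fun i _ => ?_
      rw [pow_add, mul_comm, mul_assoc, ← mul_pow, hLM i, one_pow, mul_one]
    rw [h1, ← euler_tensorPows, hP n]
    congr 1
    congr 1
    funext i
    push_cast
    ring
  have h0 := hQ 0
  rw [key, eval_shift, hval] at h0
  simpa using h0

/-- The coefficient of `n_1 ⋯ n_r` in the Snapper polynomial is the intersection number. -/
theorem coeff_eq_intNum' (d : ℕ) (hd : topologicalKrullDim X ≤ d) {F : X.Modules} (hF : Coh.IsCoh F)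
    {r : ℕ} (hr : topologicalKrullDim (CohB1.support F) ≤ r) {L M : Fin r → X.Modules}
    (hL : ∀ i, PicF.IsInvertible (L i)) (hM : ∀ i, PicF.IsInvertible (M i))
    (hLM : ∀ i, mc (L i) * mc (M i) = 1) {P : MvPolynomial (Fin r) ℚ}
    (hP : ∀ n : Fin r → ℕ, (Curv2.euler k X (Curv2.tensorPows F r L n) : ℚ) =
      MvPolynomial.eval (fun i => (n i : ℚ)) P) :
    MvPolynomial.coeff (Finsupp.equivFunOnFinite.symm fun _ : Fin r => 1) P =
      (FGA.intNum k X d M F : ℚ) := by
  rw [intNum_eq_dSum]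
  unfold dSum
  rw [Int.cast_sum]
  have h1 := cube_neg P (totalDegree_le k hF hr hL hP)
  refine h1.symm.trans (Finset.sum_congr rfl fun I _ => ?_)
  rw [Int.cast_mul]
  have h2 : ∏ i ∈ I, mc (M i) = ∏ i, mc (M i) ^ (if i ∈ I then 1 else 0) := by
    rw [← Finset.prod_subset (Finset.subset_univ I)]
    · exact Finset.prod_congr rfl fun i hi => by rw [if_pos hi, pow_one]
    · intro i _ hi
      rw [if_neg hi, pow_zero]
  have h3 : chiCl k X d F (∏ i ∈ I, mc (M i)) = eulerCl k F (∏ i ∈ I, mc (M i)) := by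
    generalize (∏ i ∈ I, mc (M i)) = c
    induction c using MC.ind with | h A => ?_
    rw [chiCl_mc, eulerCl_mc, Fga.IntAdd.eulerCharLE_eq k X d hd]
  have h4 : (fun i : Fin r => if i ∈ I then (-1 : ℚ) else 0) =
      fun i => -((if i ∈ I then 1 else 0 : ℕ) : ℚ) := by
    funext i
    split_ifs <;> simp
  rw [h3, h2, eval_neg k hF hL hM hLM hP, h4]
  push_cast
  rfl

end K420.IntCoeff
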