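import Groth.Agent.Variety.K420.IntCoeff
import Groth.Agent.CohqB.FinAmple
import Groth.Agent.Ega3B.PullTensor
import Groth.Agent.VarietyB.HHPush
import Groth.Agent.VarietyB.ProjForm

/-!
# Projection formula for Euler characteristics of twists

For `f : Z ⟶ X` affine over `k`, `G` quasi-coherent on `Z` and `L i` invertible on `X`:
`χ(X, f_*G ⊗ L^n) = χ(Z, G ⊗ (f^*L)^n)` (`euler_tensorPows_push`).
-/

set_option autoImplicit false
universe u
open CategoryTheory CategoryTheory.Limits AlgebraicGeometry Opposite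

namespace K420.IntPush

open Groth.Agent Groth.Agent.Ega2 Groth.Agent.Fga.PicMon K420.IntCoeff

variable {X Z : Scheme.{u}}

theorem mc_pullback_tensor (f : Z ⟶ X) {A B : X.Modules} (hA : PicF.IsInvertible A)
    (hB : PicF.IsInvertible B) :
    mc ((Scheme.Modules.pullback f).obj (CohB1.tensorMod A B)) =
      mc ((Scheme.Modules.pullback f).obj A) * mc ((Scheme.Modules.pullback f).obj B) :=
  mc_eq (Ega3B.PullTensor.pullTensorIso f hA hB)

theorem mc_pullback_tensorPow (f : Z ⟶ X) {A : X.Modules} (hA : PicF.IsInvertible A) (n : ℕ) :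
    mc ((Scheme.Modules.pullback f).obj (CohB1.tensorPow A n)) =
      mc ((Scheme.Modules.pullback f).obj A) ^ n := by
  obtain ⟨e⟩ := CohqB.FinAmple.nonempty_pullback_tensorPow f hA n
  rw [mc_eq e, mc_tensorPow]

theorem mc_pullback_unit (f : Z ⟶ X) :
    mc ((Scheme.Modules.pullback f).obj (Coh.structureModule X)) = 1 := by
  obtain ⟨e⟩ := CohqB.FinAmple.nonempty_pullback_tensorPow f
    (Fdesc.LocGen.isInvertible_structureModule (X := X)) 0
  exact mc_eq e

theorem mc_pullback_tensorList (f : Z ⟶ X) (l : List X.Modules) (hl : ∀ M ∈ l, PicF.IsInvertible M) :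
    mc ((Scheme.Modules.pullback f).obj (FGA.tensorList l)) =
      (l.map fun M => mc ((Scheme.Modules.pullback f).obj M)).prod := by
  induction l with
  | nil => exact mc_pullback_unit f
  | cons M l ih =>
    rw [FGA.tensorList, mc_pullback_tensor f (hl M (by simp))
      (Fga.SnapperTwist.isInvertible_tensorList l fun N hN => hl N (by simp [hN])),
      ih fun N hN => hl N (by simp [hN])]
    simp

theorem mc_pullback_multiTwist (f : Z ⟶ X) {r : ℕ} (L : Fin r → X.Modules)
    (hL : ∀ i, PicF.IsInvertible (L i)) (n : Fin r → ℕ) :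
    mc ((Scheme.Modules.pullback f).obj (FGA.multiTwist L n)) =
      ∏ i, mc ((Scheme.Modules.pullback f).obj (L i)) ^ n i := by
  rw [FGA.multiTwist, mc_pullback_tensorList, List.map_map, ← List.ofFn_eq_map, List.prod_ofFn]
  · exact Finset.prod_congr rfl fun i _ => mc_pullback_tensorPow f (hL i) _
  · intro M hM
    simp only [List.mem_map] at hM
    obtain ⟨i, -, rfl⟩ := hM
    exact Fdesc.LocGen.isInvertible_tensorPow (hL i) _

theorem hasBases_of_isInvertible {L : X.Modules} (hL : PicF.IsInvertible L) :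
    VarietyB.TensCoh.HasBases L :=
  VarietyB.TensCoh.HasBases.of_isFinLocFreeOfRank (Ega2.QCohLocal.isFinLocFreeOfRank_one_iff.mpr hL)

/-- The projection formula for Euler characteristics of twists. -/
theorem euler_tensorPows_push (k : Type u) [Field k] [X.Over (Spec (CommRingCat.of k))]
    [Z.Over (Spec (CommRingCat.of k))] (f : Z ⟶ X)
    (hf : f ≫ (X ↘ (Spec (CommRingCat.of k))) = Z ↘ (Spec (CommRingCat.of k))) [IsAffineHom f]
    (G : Z.Modules) (hG : Coh.IsQCoh G) {r : ℕ} (L : Fin r → X.Modules)
    (hL : ∀ i, PicF.IsInvertible (L i)) (n : Fin r → ℕ) :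
    Curv2.euler k X (Curv2.tensorPows ((Coh.push f).obj G) r L n) =
      Curv2.euler k Z (Curv2.tensorPows G r (fun i => (Scheme.Modules.pullback f).obj (L i)) n) := by
  have hT := Fga.SnapperTwist.isInvertible_multiTwist L hL n
  have hTb := hasBases_of_isInvertible hT
  rw [euler_tensorPows, euler_tensorPows, ← mc_multiTwist, ← mc_pullback_multiTwist f L hL n,
    eulerCl_mc, eulerCl_mc, euler_congr k (VarietyB.ProjForm.projIso f hTb G)]
  exact (VarietyB.HHPush.euler_push f k hf _ (VarietyB.TensCoh.isQCoh_tensorMod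
    (VarietyB.ProjForm.HasBases.pullback f hTb) hG))

end K420.IntPush
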