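import Mathlib.AlgebraicGeometry.IdealSheaf.IrreducibleComponent
import Mathlib.AlgebraicGeometry.Morphisms.ClosedImmersion
import Mathlib.Topology.KrullDimension
import Groth.Agent.Ega1.ReducedSub
import Groth.Agent.Sga1.SigmaFinite

/-!
# The reduced irreducible components of a Noetherian scheme

For `X` Noetherian and `C` an irreducible component, `compSub X C` is `C` with its reduced structure (in the form
`(X.irreducibleComponentIdeal C hC).radical.subscheme` of the statements), `compι X C` its closed immersion.
* it is integral, of dimension `dim C`, with image `C`;
* `sigmaComp X : ∐ C ⟶ X` is finite and surjective.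
-/

set_option autoImplicit false
universe u
open CategoryTheory CategoryTheory.Limits AlgebraicGeometry TopologicalSpace

namespace K420.Comp

variable (X : Scheme.{u}) [IsNoetherian X]

/-- `C` with its reduced structure. -/
noncomputable abbrev compSub (C : irreducibleComponents (X : Type u)) : Scheme.{u} :=
  (X.irreducibleComponentIdeal C.1 C.2).radical.subscheme

/-- The closed immersion of a reduced irreducible component. -/
noncomputable abbrev compι (C : irreducibleComponents (X : Type u)) : compSub X C ⟶ X :=
  (X.irreducibleComponentIdeal C.1 C.2).radical.subschemeι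

theorem range_compι (C : irreducibleComponents (X : Type u)) : Set.range (compι X C) = C.1 := by
  rw [Scheme.IdealSheafData.range_subschemeι]
  rfl

instance isReduced_compSub (C : irreducibleComponents (X : Type u)) : IsReduced (compSub X C) :=
  Groth.Agent.Ega1.ReducedSub.isReduced_subscheme_radical _

instance irreducibleSpace_compSub (C : irreducibleComponents (X : Type u)) :
    IrreducibleSpace (compSub X C) := by
  have h1 : IsIrreducible (Set.range (compι X C)) := by
    rw [range_compι]; exact C.2.1
  have h2 : IrreducibleSpace (Set.range (compι X C)) := Subtype.irreducibleSpace h1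
  let e := (compι X C).isClosedEmbedding.isEmbedding.toHomeomorph
  exact e.symm.surjective.irreducibleSpace e.symm.continuous

instance isIntegral_compSub (C : irreducibleComponents (X : Type u)) : IsIntegral (compSub X C) :=
  isIntegral_of_irreducibleSpace_of_isReduced _

theorem dim_compSub (C : irreducibleComponents (X : Type u)) :
    topologicalKrullDim (compSub X C) = topologicalKrullDim (C.1 : Set X) := by
  have e := (compι X C).isClosedEmbedding.isEmbedding.toHomeomorph
  rw [IsHomeomorph.topologicalKrullDim_eq _ e.isHomeomorph, range_compι]

instance finite_components : Finite (irreducibleComponents (X : Type u)) :=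
  NoetherianSpace.finite_irreducibleComponents

/-- The morphism from the disjoint union of the reduced irreducible components. -/
noncomputable abbrev sigmaComp : (∐ compSub X) ⟶ X := Sigma.desc (compι X)

instance isFinite_sigmaComp : IsFinite (sigmaComp X) :=
  Groth.Agent.Sga1.SigmaFinite.isFinite_sigmaDesc (compι X)

instance surjective_sigmaComp : Surjective (sigmaComp X) := by
  refine ⟨fun x => ?_⟩
  obtain ⟨C, hC, hx⟩ : ∃ C ∈ irreducibleComponents (X : Type u), x ∈ C :=
    ⟨irreducibleComponent x, irreducibleComponent_mem_irreducibleComponents x,
      mem_irreducibleComponent⟩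
  have h1 : x ∈ Set.range (compι X ⟨C, hC⟩) := by rw [range_compι]; exact hx
  obtain ⟨z, hz⟩ := h1
  refine ⟨(Sigma.ι (compSub X) ⟨C, hC⟩).base z, ?_⟩
  change (Sigma.ι (compSub X) ⟨C, hC⟩ ≫ sigmaComp X) z = x
  rw [Sigma.ι_desc]
  exact hz

end K420.Comp
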