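import Groth.Agent.Variety.K420.DetDeg
import Groth.Agent.S15827
import Groth.Agent.S1551
import Groth.Agent.S7637
import Groth.Agent.Dual.H366.ExtQCoh
import Groth.Agent.Ega2.AmpleGlobGen
import Groth.Agent.CurvesC.GGSec
import Groth.Agent.Ega2.QCohLocal

/-!
# `deg E = deg (det E)` on an integral proper curve
-/

set_option autoImplicit false
universe u
open CategoryTheory CategoryTheory.Limits AlgebraicGeometry TopologicalSpace Opposite

namespace K420.DetMain

open Groth.Agent Groth.Agent.Sga67.Sec Groth.Agent.Sga67.LocBasis Groth.Agent.Sga67.LocBasisStalk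

variable {X : Scheme.{u}}

/-- Sections of a globally generated module independent at the generic point. -/
theorem exists_sections [IsIntegral X] {n : ℕ} {E : X.Modules}
    (hE : FlatMod.IsFinLocFreeOfRank n E) (hg : Curv2.IsGloballyGenerated E) :
    ∃ s : Fin n → Sec E (⊤ : X.Opens), LinearIndependent (X.presheaf.stalk (genericPoint X))
      (fun j => ger E (genericPoint X) (Opens.mem_top _) (s j)) := by
  obtain ⟨ι, e, he⟩ := CurvesC.GGSec.exists_sections_of_isGloballyGenerated hg
  have h1 := he (genericPoint X)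
  let _ : DivisionRing (X.presheaf.stalk (genericPoint X)) :=
    inferInstanceAs (DivisionRing X.functionField)
  obtain ⟨κ, a, ha, hsp, hli⟩ := exists_linearIndependent' (X.presheaf.stalk (genericPoint X))
    (fun i => E.presheaf.germ ⊤ (genericPoint X) trivial (e i))
  obtain ⟨U, hU, b, hb⟩ := (Krr.H487.KerRank.isFinLocFreeOfRank_iff _).mp hE (genericPoint X)
  obtain ⟨β, hβ⟩ := Krr.H487.LocBasisPull.exists_stalkBasis hb (genericPoint X) hU
  rw [h1] at hsp
  let γ := Module.Basis.mk hli hsp.ge
  let σ : Fin n ≃ κ := β.indexEquiv γ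
  refine ⟨fun j => e (a (σ j)), ?_⟩
  exact hli.comp σ σ.injective

variable (k : Type u) [Field k] [X.Over (Spec (CommRingCat.of k))]
  [IsProper (X ↘ Spec (CommRingCat.of k))]

theorem deg_tensorPow (hdim : topologicalKrullDim X ≤ 1) {M : X.Modules}
    (hM : FlatMod.IsFinLocFreeOfRank 1 M) (n : ℕ) :
    FlatMod.IsFinLocFreeOfRank 1 (CohB1.tensorPow M n) ∧
    Curv2.deg k X (CohB1.tensorPow M n) 1 = n * Curv2.deg k X M 1 := by
  induction n with
  | zero =>
    refine ⟨?_, ?_⟩
    · exact Ega2.QCohLocal.isFinLocFreeOfRank_one_iff.mpr Fdesc.LocGen.isInvertible_structureModule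
    · change Curv2.deg k X (Coh.structureModule X) 1 = _
      unfold Curv2.deg
      push_cast
      ring
  | succ n ih =>
    obtain ⟨h1, h2⟩ := ih
    refine ⟨?_, ?_⟩
    · have := Krr.H487.KerRank.isFinLocFreeOfRank_tensor h1 hM
      exact this
    · have h3 := S7637.result k X hdim 1 1 (CohB1.tensorPow M n) M h1 hM
      change Curv2.deg k X (CohB1.tensorMod (CohB1.tensorPow M n) M) 1 = _
      rw [mul_one] at h3
      rw [h3, h2]
      push_cast
      ring

/-- On an integral proper curve the degree of a vector bundle is the degree of its determinant. -/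
theorem deg_det [IsIntegral X] (hdim : topologicalKrullDim X = 1) {n : ℕ} {E L : X.Modules}
    (hE : FlatMod.IsFinLocFreeOfRank n E) (hL : ExtPow.IsExtPow n E L) :
    Curv2.deg k X E n = Curv2.deg k X L 1 := by
  have hN : IsNoetherian X := VarietyA.GlobGen.isNoetherian_of_finiteType (X ↘ (Spec (CommRingCat.of k)))
  have hsep : X.IsSeparated := by
    have h1 : IsSeparated ((X ↘ (Spec (CommRingCat.of k))) ≫ terminal.from (Spec (CommRingCat.of k))) :=
      inferInstance
    rw [← terminalIsTerminal.hom_ext (terminal.from X)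
      ((X ↘ (Spec (CommRingCat.of k))) ≫ terminal.from _)] at h1
    exact ⟨h1⟩
  obtain ⟨H, hH⟩ := S1551.result X hdim
  have hcE : Coh.IsCoh E := VarietyB.DegPhi.isCoh_of_hasBases fun x =>
    VarietyB.ExactLoc.hasBasis_of_isFinLocFree (Krr.H487.KerRank.isFinLocFree_of_rank hE) x
  obtain ⟨m, hm⟩ := Ega2.AmpleGlobGen.exists_globGen hH hcE
  have hgg := hm m le_rfl
  have hH1 : FlatMod.IsFinLocFreeOfRank 1 H := Ega2.QCohLocal.isFinLocFreeOfRank_one_iff.mpr hH.1
  obtain ⟨hM, hMd⟩ := deg_tensorPow k hdim.le hH1 m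
  set M := CohB1.tensorPow H m with hMdef
  obtain ⟨hMn, hMnd⟩ := deg_tensorPow k hdim.le hM n
  have hE' : FlatMod.IsFinLocFreeOfRank n (CohB1.tensorMod E M) := by
    have := Krr.H487.KerRank.isFinLocFreeOfRank_tensor hE hM
    rwa [mul_one] at this
  have hcE' : Coh.IsCoh (CohB1.tensorMod E M) := VarietyB.DegPhi.isCoh_of_hasBases fun x =>
    VarietyB.ExactLoc.hasBasis_of_isFinLocFree (Krr.H487.KerRank.isFinLocFree_of_rank hE') x
  obtain ⟨L', hL'⟩ := Dual.H366.ExtQCoh.exists_isExtPow n hcE'.1
  obtain ⟨s, hs⟩ := exists_sections hE' hgg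
  have h1 := DetDeg.deg_eq_of_sections k hdim.le hE' hL' s hs
  obtain ⟨e⟩ := S15827.result E M (Krr.H487.KerRank.isFinLocFree_of_rank hE) hM n L' L hL' hL
  have hLr : FlatMod.IsFinLocFreeOfRank 1 L := by
    have := Krr.H487.KerRank.isFinLocFreeOfRank_extPow hE hL
    rwa [Nat.choose_self] at this
  have h2 : Curv2.deg k X L' 1 = Curv2.deg k X (CohB1.tensorMod L (CohB1.tensorPow M n)) 1 := by
    unfold Curv2.deg
    rw [VarietyA.DegRank.euler_iso k e]
  have h3 := S7637.result k X hdim.le n 1 E M hE hM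
  have h4 := S7637.result k X hdim.le 1 1 L (CohB1.tensorPow M n) hLr hMn
  rw [mul_one] at h3 h4
  rw [h1, h2, h4, hMnd] at h3
  push_cast at h3
  linarith

end K420.DetMain
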