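import Mathlib.Algebra.MvPolynomial.Funext
import Mathlib.Algebra.MvPolynomial.Eval
import Mathlib.Algebra.MvPolynomial.Monad
import Mathlib.Algebra.BigOperators.Ring.Finset
import Mathlib.Algebra.Order.Field.Rat
import Mathlib.Tactic

/-!
# Polynomials in several variables over `ℚ` and their values at natural numbers

* `eq_of_nat`: equality from equality on a translate of `ℕ^r`;
* `cube_neg`: for `P` of total degree at most `r` in `r` variables, the alternating sum of the values at the
  negative cube is the coefficient of `x_1 ⋯ x_r`.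
-/

set_option autoImplicit false

namespace K420.PolyNat

open MvPolynomial

/-- Two polynomials with the same values on `t + ℕ^r` are equal. -/
theorem eq_of_nat {r : ℕ} (P Q : MvPolynomial (Fin r) ℚ) (t : Fin r → ℕ)
    (h : ∀ n : Fin r → ℕ, eval (fun i => ((n i + t i : ℕ) : ℚ)) P =
      eval (fun i => ((n i + t i : ℕ) : ℚ)) Q) : P = Q := by
  refine MvPolynomial.funext_set (fun i => Set.range (fun n : ℕ => ((n + t i : ℕ) : ℚ)))
    (fun i => Set.infinite_range_of_injective fun a b hab => ?_) fun x hx => ?_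
  · have : (a + t i : ℕ) = b + t i := by exact_mod_cast hab
    omega
  · have hx' : ∀ i, ∃ n : ℕ, ((n + t i : ℕ) : ℚ) = x i := fun i => hx i (Set.mem_univ i)
    choose n hn using hx'
    have : x = fun i => ((n i + t i : ℕ) : ℚ) := funext fun i => (hn i).symm
    rw [this]
    exact h n

/-- Two polynomials with the same values on `ℕ^r` are equal. -/
theorem eq_of_nat' {r : ℕ} (P Q : MvPolynomial (Fin r) ℚ)
    (h : ∀ n : Fin r → ℕ, eval (fun i => (n i : ℚ)) P = eval (fun i => (n i : ℚ)) Q) : P = Q :=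
  eq_of_nat P Q 0 fun n => by simpa using h n

/-- the exponent `(1, …, 1)` -/
noncomputable abbrev ones (r : ℕ) : Fin r →₀ ℕ := Finsupp.equivFunOnFinite.symm fun _ : Fin r => 1

theorem ones_apply (r : ℕ) (i : Fin r) : ones r i = 1 := rfl

/-- A monomial of total degree at most `r` in `r` variables is `x_1 ⋯ x_r` or misses a variable. -/
theorem eq_ones_or {r : ℕ} (m : Fin r →₀ ℕ) (hm : (m.sum fun _ e => e) ≤ r) :
    m = ones r ∨ ∃ j, m j = 0 := by
  by_contra! hne
  obtain ⟨h1, h2⟩ := hne
  apply h1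
  rw [Finsupp.sum_fintype _ _ (by simp)] at hm
  have h3 : ∀ i ∈ (Finset.univ : Finset (Fin r)), 1 ≤ m i := fun i _ => Nat.one_le_iff_ne_zero.mpr (h2 i)
  have h4 : ∑ i : Fin r, 1 = ∑ i : Fin r, m i := le_antisymm (Finset.sum_le_sum h3) (by simpa using hm)
  have h5 := (Finset.sum_eq_sum_iff_of_le h3).mp h4
  ext i
  exact (h5 i (Finset.mem_univ i)).symm

theorem sum_cube_prod {r : ℕ} (m : Fin r →₀ ℕ) (a : ℚ) :
    (Finset.univ : Finset (Finset (Fin r))).sum (fun I => (-1 : ℚ) ^ I.card *
      ∏ i : Fin r, (if i ∈ I then a else 0) ^ m i) = ∏ i : Fin r, (-(a ^ m i) + (0 : ℚ) ^ m i) := by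
  classical
  have key := Finset.prod_add (fun i : Fin r => -(a ^ m i)) (fun i : Fin r => (0 : ℚ) ^ m i) Finset.univ
  rw [Finset.powerset_univ] at key
  rw [key]
  refine Finset.sum_congr rfl fun I _ => ?_
  have e : ∏ i : Fin r, (if i ∈ I then a else 0) ^ m i =
      (∏ i ∈ Finset.univ \ I, (0 : ℚ) ^ m i) * ∏ i ∈ I, a ^ m i := by
    rw [← Finset.prod_sdiff (Finset.subset_univ I)]
    congr 1
    · refine Finset.prod_congr rfl fun i hi => ?_
      rw [Finset.mem_sdiff] at hi
      simp [hi.2]
    · refine Finset.prod_congr rfl fun i hi => ?_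
      simp [hi]
  rw [e, Finset.prod_neg]
  ring

/-- The alternating sum over the negative cube. -/
theorem cube_neg {r : ℕ} (P : MvPolynomial (Fin r) ℚ) (hP : P.totalDegree ≤ r) :
    (Finset.univ : Finset (Finset (Fin r))).sum (fun I => (-1 : ℚ) ^ I.card *
      MvPolynomial.eval (fun i => if i ∈ I then (-1 : ℚ) else 0) P) =
        MvPolynomial.coeff (ones r) P := by
  classical
  simp_rw [MvPolynomial.eval_eq', Finset.mul_sum]
  rw [Finset.sum_comm]
  have h1 : ∀ m ∈ P.support, (Finset.univ : Finset (Finset (Fin r))).sum (fun I => (-1 : ℚ) ^ I.card *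
      (MvPolynomial.coeff m P * ∏ i : Fin r, (if i ∈ I then (-1 : ℚ) else 0) ^ m i)) =
        if m = ones r then MvPolynomial.coeff m P else 0 := by
    intro m hm
    have h2 : ∀ I : Finset (Fin r), (-1 : ℚ) ^ I.card *
      (MvPolynomial.coeff m P * ∏ i : Fin r, (if i ∈ I then (-1 : ℚ) else 0) ^ m i) =
        MvPolynomial.coeff m P * ((-1 : ℚ) ^ I.card *
          ∏ i : Fin r, (if i ∈ I then (-1 : ℚ) else 0) ^ m i) := fun I => by ring
    rw [Finset.sum_congr rfl fun I _ => h2 I, ← Finset.mul_sum, sum_cube_prod]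
    rcases eq_ones_or m ((MvPolynomial.le_totalDegree hm).trans hP) with h | ⟨j, hj⟩
    · rw [if_pos h]
      subst h
      simp
    · rw [if_neg, Finset.prod_eq_zero (Finset.mem_univ j) (by simp [hj]), mul_zero]
      rintro rfl
      rw [ones_apply] at hj
      exact one_ne_zero hj
  rw [Finset.sum_congr rfl h1]
  by_cases hs : ones r ∈ P.support
  · rw [Finset.sum_eq_single_of_mem _ hs (fun m _ hne => if_neg hne), if_pos rfl]
  · rw [Finset.sum_eq_zero (fun m hm => if_neg (fun h : m = ones r => hs (h ▸ hm)))]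
    exact (MvPolynomial.notMem_support_iff.mp hs).symm

/-- Evaluation of a translated polynomial. -/
theorem eval_shift {r : ℕ} (P : MvPolynomial (Fin r) ℚ) (t x : Fin r → ℚ) :
    eval x (bind₁ (fun i => X i - C (t i)) P) = eval (fun i => x i - t i) P := by
  rw [← MvPolynomial.coe_aeval_eq_eval, ← MvPolynomial.coe_aeval_eq_eval]
  simp only [RingHom.coe_coe]
  rw [MvPolynomial.aeval_bind₁]
  simp

end K420.PolyNat
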