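import Mathlib.Algebra.Group.ForwardDiff
import Mathlib.Algebra.MvPolynomial.Polynomial
import Mathlib.Algebra.Polynomial.BigOperators
import Mathlib.Algebra.Polynomial.AlgebraMap
import Mathlib.Algebra.MvPolynomial.Degrees
import Groth.Agent.Variety.K420.PolyNat

/-!
# Polynomials in `n_1 + ⋯ + n_d`

* `coeff_ones`: if `P(n_1, …, n_d) = p(n_1 + ⋯ + n_d)` with `deg p ≤ d`, the coefficient of `n_1 ⋯ n_d` in `P` is
  `d!` times the coefficient of `t^d` in `p`;
* `exists_bound`: a function on `ℕ` eventually equal to a polynomial of degree `≤ d` is its leading term up to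
  `O((n+1)^{d-1})`.
-/

set_option autoImplicit false

namespace K420.DiagPoly

open MvPolynomial K420.PolyNat Finset fwdDiff

theorem fwdDiff_eq (p : Polynomial ℚ) {d : ℕ} (hp : p.natDegree ≤ d) (x : ℚ) :
    Δ_[1]^[d] p.eval x = p.coeff d * (d.factorial : ℚ) := by
  rcases hp.lt_or_eq with h | h
  · rw [Polynomial.fwdDiff_iter_eq_zero_of_degree_lt h, Polynomial.coeff_eq_zero_of_natDegree_lt h]
    simp
  · subst h
    rw [Polynomial.fwdDiff_iter_degree_eq_factorial]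
    simp

theorem eval_diag {d : ℕ} {p : Polynomial ℚ} {P : MvPolynomial (Fin d) ℚ}
    (h : ∀ n : Fin d → ℕ, MvPolynomial.eval (fun i => (n i : ℚ)) P = p.eval (∑ i, (n i : ℚ)))
    (x : Fin d → ℚ) : MvPolynomial.eval x P = p.eval (∑ i, x i) := by
  have key : ∀ x : Fin d → ℚ, MvPolynomial.eval x (Polynomial.aeval (∑ i, (X i : MvPolynomial (Fin d) ℚ)) p) =
      p.eval (∑ i, x i) := by
    intro x
    rw [← MvPolynomial.coe_aeval_eq_eval, RingHom.coe_coe, ← Polynomial.aeval_algHom_apply]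
    simp [Polynomial.aeval_def, Polynomial.eval₂_eq_eval_map]
  have h1 : P = Polynomial.aeval (∑ i, (X i : MvPolynomial (Fin d) ℚ)) p :=
    eq_of_nat' _ _ fun n => by rw [h, key]
  rw [h1, key]

theorem coeff_ones {d : ℕ} {p : Polynomial ℚ} (hp : p.natDegree ≤ d) {P : MvPolynomial (Fin d) ℚ}
    (hP : P.totalDegree ≤ d)
    (h : ∀ n : Fin d → ℕ, MvPolynomial.eval (fun i => (n i : ℚ)) P = p.eval (∑ i, (n i : ℚ))) :
    MvPolynomial.coeff (ones d) P = p.coeff d * (d.factorial : ℚ) := by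
  classical
  rw [← cube_neg P hP]
  have h1 : ∀ I : Finset (Fin d), (-1 : ℚ) ^ I.card *
      MvPolynomial.eval (fun i => if i ∈ I then (-1 : ℚ) else 0) P =
        (fun m : ℕ => (-1 : ℚ) ^ m * p.eval (-(m : ℚ))) I.card := by
    intro I
    rw [eval_diag h]
    have : ∑ i : Fin d, (if i ∈ I then (-1 : ℚ) else 0) = -(I.card : ℚ) := by
      rw [Finset.sum_ite_mem, Finset.univ_inter, Finset.sum_const]
      simp
    rw [this]
  rw [Finset.sum_congr rfl fun I _ => h1 I, ← Finset.powerset_univ,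
    Finset.sum_powerset_apply_card (fun m : ℕ => (-1 : ℚ) ^ m * p.eval (-(m : ℚ))),
    Finset.card_univ, Fintype.card_fin,
    ← fwdDiff_eq p hp (-(d : ℚ)), fwdDiff_iter_eq_sum_shift, ← Finset.sum_range_reflect]
  refine Finset.sum_congr rfl fun j hj => ?_
  have hj' : j ≤ d := Nat.lt_succ_iff.mp (Finset.mem_range.mp hj)
  have e1 : d + 1 - 1 - j = d - j := by omega
  rw [e1, Nat.choose_symm hj']
  have e2 : (-(d : ℚ) + j • (1 : ℚ)) = -((d - j : ℕ) : ℚ) := by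
    rw [Nat.cast_sub hj', nsmul_eq_mul]
    ring
  rw [e2]
  simp only [nsmul_eq_mul, zsmul_eq_mul]
  push_cast
  ring

theorem exists_bound {d : ℕ} {p : Polynomial ℚ} (hp : p.natDegree ≤ d) (f : ℕ → ℚ) (n₀ : ℕ)
    (h : ∀ n : ℕ, n₀ ≤ n → f n = p.eval (n : ℚ)) :
    ∃ C : ℚ, ∀ n : ℕ, |f n - p.coeff d * (n : ℚ) ^ d| ≤ C * ((n : ℚ) + 1) ^ (d - 1) := by
  refine ⟨(∑ j ∈ Finset.range d, |p.coeff j|) +
    ∑ m ∈ Finset.range n₀, |f m - p.coeff d * (m : ℚ) ^ d|, fun n => ?_⟩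
  have hA : 0 ≤ ∑ j ∈ Finset.range d, |p.coeff j| := Finset.sum_nonneg fun _ _ => abs_nonneg _
  have hB : 0 ≤ ∑ m ∈ Finset.range n₀, |f m - p.coeff d * (m : ℚ) ^ d| :=
    Finset.sum_nonneg fun _ _ => abs_nonneg _
  have hn : (1 : ℚ) ≤ (n : ℚ) + 1 := by
    have : (0 : ℚ) ≤ n := Nat.cast_nonneg n
    linarith
  have hpow : (1 : ℚ) ≤ ((n : ℚ) + 1) ^ (d - 1) := one_le_pow₀ hn
  rw [add_mul]
  by_cases hlt : n < n₀
  · have h1 : |f n - p.coeff d * (n : ℚ) ^ d| ≤ ∑ m ∈ Finset.range n₀, |f m - p.coeff d * (m : ℚ) ^ d| :=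
      Finset.single_le_sum (f := fun m : ℕ => |f m - p.coeff d * (m : ℚ) ^ d|)
        (fun _ _ => abs_nonneg _) (Finset.mem_range.mpr hlt)
    have h2 : (∑ m ∈ Finset.range n₀, |f m - p.coeff d * (m : ℚ) ^ d|) ≤
        (∑ m ∈ Finset.range n₀, |f m - p.coeff d * (m : ℚ) ^ d|) * ((n : ℚ) + 1) ^ (d - 1) :=
      le_mul_of_one_le_right hB hpow
    have h3 : 0 ≤ (∑ j ∈ Finset.range d, |p.coeff j|) * ((n : ℚ) + 1) ^ (d - 1) :=
      mul_nonneg hA (by positivity)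
    linarith
  · rw [h n (not_lt.mp hlt), Polynomial.eval_eq_sum_range' (Nat.lt_succ_of_le hp),
      Finset.sum_range_succ, add_sub_cancel_right]
    have h1 : |∑ j ∈ Finset.range d, p.coeff j * (n : ℚ) ^ j| ≤
        (∑ j ∈ Finset.range d, |p.coeff j|) * ((n : ℚ) + 1) ^ (d - 1) := by
      refine (Finset.abs_sum_le_sum_abs _ _).trans ?_
      rw [Finset.sum_mul]
      refine Finset.sum_le_sum fun j hj => ?_
      rw [abs_mul]
      refine mul_le_mul_of_nonneg_left ?_ (abs_nonneg _)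
      have hn0 : (0 : ℚ) ≤ n := Nat.cast_nonneg n
      rw [abs_of_nonneg (pow_nonneg hn0 j)]
      have hj' : j ≤ d - 1 := by
        have := Finset.mem_range.mp hj
        omega
      calc (n : ℚ) ^ j ≤ ((n : ℚ) + 1) ^ j := pow_le_pow_left₀ hn0 (by linarith) j
        _ ≤ ((n : ℚ) + 1) ^ (d - 1) := pow_le_pow_right₀ hn hj'
    have h2 : 0 ≤ (∑ m ∈ Finset.range n₀, |f m - p.coeff d * (m : ℚ) ^ d|) * ((n : ℚ) + 1) ^ (d - 1) :=
      mul_nonneg hB (by positivity)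
    linarith

end K420.DiagPoly
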