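import Groth.Agent.S0612
import Mathlib.LinearAlgebra.Determinant
import Mathlib.LinearAlgebra.Matrix.ToLinearEquiv
import Mathlib.LinearAlgebra.Matrix.Nondegenerate
import Mathlib.LinearAlgebra.ExteriorPower.Basic

/-!
# Alternating maps, determinants, and lengths of cokernels

* `alternating_eq`: an alternating map in as many variables as the rank is `f v = det v • f e`;
* `length_quot_eq`: for a basis `b` of `M` and vectors `v` with `det v` a nonzerodivisor, the length of
  `M / ⟨v⟩` is that of `N / ⟨det v • w⟩`, `N` free on `w`.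
-/

set_option autoImplicit false
universe u

namespace K420.DetLen

open Module

theorem alternating_eq {R M N : Type*} [CommRing R] [AddCommGroup M] [Module R M] [AddCommGroup N]
    [Module R N] {ι : Type*} [Fintype ι] [DecidableEq ι] (e : Basis ι R M) (f : M [⋀^ι]→ₗ[R] N)
    (v : ι → M) : f v = e.det v • f e := by
  let g : M [⋀^ι]→ₗ[R] N := (LinearMap.toSpanSingleton R N (f e)).compAlternatingMap e.det
  have h : f = g := by
    refine Basis.ext_alternating e fun i hi => ?_
    let σ : Equiv.Perm ι := Equiv.ofBijective i (Finite.injective_iff_bijective.1 hi)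
    change f (e ∘ σ) = g (e ∘ σ)
    rw [f.map_perm, g.map_perm]
    congr 1
    change f e = e.det e • f e
    rw [e.det_self, one_smul]
  exact congrArg (fun g : M [⋀^ι]→ₗ[R] N => g v) h

theorem length_quot_eq {R M N : Type u} [CommRing R] [IsNoetherianRing R] [AddCommGroup M]
    [Module R M] [AddCommGroup N] [Module R N] {n : ℕ} (b : Basis (Fin n) R M) (v : Fin n → M)
    (hv : b.det v ∈ nonZeroDivisors R) (w : N)
    (hw : Function.Bijective (LinearMap.toSpanSingleton R N w)) :
    Module.length R (M ⧸ Submodule.span R (Set.range v)) =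
      Module.length R (N ⧸ Submodule.span R {b.det v • w}) := by
  set A : Matrix (Fin n) (Fin n) R := b.toMatrix v with hA
  have hdet : LinearMap.det (Matrix.toLin' A) = b.det v := by
    rw [LinearMap.det_toLin', Basis.det_apply]
  have h1 : Module.length R (M ⧸ Submodule.span R (Set.range v)) =
      Module.length R ((Fin n → R) ⧸ LinearMap.range (Matrix.toLin' A)) := by
    refine (Submodule.Quotient.equiv _ _ b.equivFun ?_).length_eq
    rw [Submodule.map_span]
    have hr : LinearMap.range (Matrix.toLin' A) =
        Submodule.span R (Set.range fun j => A.col j) := by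
      rw [Matrix.range_toLin']
    rw [hr]
    congr 1
    rw [← Set.range_comp]
    rfl
  have h2 : Module.length R (N ⧸ Submodule.span R {b.det v • w}) = Ring.ord R (b.det v) := by
    rw [Ring.ord]
    refine ((Submodule.Quotient.equiv _ _ (LinearEquiv.ofBijective _ hw) ?_).length_eq).symm
    change Submodule.map _ (Submodule.span R {b.det v}) = _
    rw [Submodule.map_span, Set.image_singleton]
    rfl
  rw [h1, h2, ← hdet]
  exact Groth.Agent.S0612.result (Matrix.toLin' A) (by rw [hdet]; exact hv)

theorem eq_zero_of_sum {R M : Type*} [CommRing R] [AddCommGroup M] [Module R M] {n : ℕ}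
    (b : Basis (Fin n) R M) (v : Fin n → M) (hv : b.det v ∈ nonZeroDivisors R) (a : Fin n → R)
    (h : ∑ j, a j • v j = 0) : a = 0 := by
  have h1 : (b.toMatrix v).det ∈ nonZeroDivisors R := by rwa [← Basis.det_apply]
  refine (Matrix.mulVec_injective_of_det_mem_nonZeroDivisors h1) ?_
  rw [Matrix.mulVec_zero]
  funext i
  have h2 := congrArg (fun m => b.repr m i) h
  simp only [map_sum, map_smul, Finsupp.finsetSum_apply, Finsupp.smul_apply, smul_eq_mul, map_zero,
    Finsupp.zero_apply] at h2
  rw [Matrix.mulVec_apply_eq_sum]
  simp only [Basis.toMatrix_apply, Pi.zero_apply]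
  rw [← h2]
  exact Finset.sum_congr rfl fun j _ => mul_comm _ _

theorem det_ne_zero_of_linearIndependent {R M : Type*} [CommRing R] [IsDomain R] [AddCommGroup M]
    [Module R M] {n : ℕ} (b : Basis (Fin n) R M) (v : Fin n → M) (hv : LinearIndependent R v) :
    b.det v ≠ 0 := by
  intro h
  rw [Basis.det_apply] at h
  obtain ⟨a, ha, h1⟩ := Matrix.exists_mulVec_eq_zero_iff.mpr h
  apply ha
  funext j
  refine Fintype.linearIndependent_iff.mp hv a ?_ j
  apply b.repr.injective
  rw [map_zero]
  ext i
  simp only [map_sum, map_smul, Finsupp.finsetSum_apply, Finsupp.smul_apply, smul_eq_mul,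
    Finsupp.zero_apply]
  have h2 := congrFun h1 i
  rw [Matrix.mulVec_apply_eq_sum] at h2
  simp only [Basis.toMatrix_apply, Pi.zero_apply] at h2
  rw [← h2]
  exact Finset.sum_congr rfl fun j _ => mul_comm _ _

end K420.DetLen
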